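import Mathlib
import Groth.Agent.Lib.Helper5.KProj.DerHo

/-!
# Bijectivity of precomposition, triangles and derived functors on shifted single complexes
(helper6)

* `Bij a K`: precomposition with `a` is bijective on maps to `K`; invariance lemmas.
* `bij_of_subsingleton` / `subsingleton_of_bij`: for a distinguished triangle `X → Y → E → X[1]`,
  `Hom(E, K[n]) = 0` for all `n` iff `Hom(Y, K[n]) → Hom(X, K[n])` is bijective for all `n`.
* `bij_LG_single`: a left derived functor `LG` of a termwise functor `G`, evaluated on a shifted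
  single complex on which the counit is invertible.
-/

set_option autoImplicit false
set_option linter.unusedSectionVars false
set_option linter.unusedVariables false
set_option linter.style.haveILetI false
universe w w' v v' u u'
open CategoryTheory CategoryTheory.Limits CategoryTheory.Pretriangulated

namespace Groth.Agent.Lib.Helper6.DCPush

section Bij

variable {𝒯 : Type u} [Category.{v} 𝒯]

/-- precomposition with `a` is bijective on maps to `K` -/
def Bij {A B : 𝒯} (a : A ⟶ B) (K : 𝒯) : Prop :=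
  Function.Bijective (fun x : B ⟶ K => a ≫ x)

lemma bij_of_arrow_iso_mp {A B A' B' : 𝒯} (a : A ⟶ B) (a' : A' ⟶ B') (e₁ : A ≅ A') (e₂ : B ≅ B')
    (h : a ≫ e₂.hom = e₁.hom ≫ a') (K : 𝒯) (ha : Bij a K) : Bij a' K := by
  have h' : a' ≫ e₂.inv = e₁.inv ≫ a := by
    rw [← cancel_mono e₂.hom, Category.assoc, Iso.inv_hom_id, Category.comp_id, Category.assoc, h,
      Iso.inv_hom_id_assoc]
  constructor
  · intro x y hxy
    have hxy' : a' ≫ x = a' ≫ y := hxy
    have h1 : a ≫ (e₂.hom ≫ x) = a ≫ (e₂.hom ≫ y) := by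
      rw [← Category.assoc, ← Category.assoc, h, Category.assoc, Category.assoc, hxy']
    have h2 : e₂.hom ≫ x = e₂.hom ≫ y := ha.1 (a₁ := e₂.hom ≫ x) (a₂ := e₂.hom ≫ y) h1
    exact (cancel_epi e₂.hom).1 h2
  · intro z
    obtain ⟨x, hx⟩ := ha.2 (e₁.hom ≫ z)
    have hx' : a ≫ x = e₁.hom ≫ z := hx
    refine ⟨e₂.inv ≫ x, ?_⟩
    show a' ≫ e₂.inv ≫ x = z
    rw [← Category.assoc, h', Category.assoc, hx', Iso.inv_hom_id_assoc]

lemma bij_of_arrow_iso {A B A' B' : 𝒯} (a : A ⟶ B) (a' : A' ⟶ B') (e₁ : A ≅ A') (e₂ : B ≅ B')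
    (h : a ≫ e₂.hom = e₁.hom ≫ a') (K : 𝒯) : Bij a K ↔ Bij a' K := by
  refine ⟨bij_of_arrow_iso_mp a a' e₁ e₂ h K, bij_of_arrow_iso_mp a' a e₁.symm e₂.symm ?_ K⟩
  show a' ≫ e₂.inv = e₁.inv ≫ a
  rw [← cancel_mono e₂.hom, Category.assoc, Iso.inv_hom_id, Category.comp_id, Category.assoc, h,
    Iso.inv_hom_id_assoc]

lemma bij_natIso_comp {𝒳 : Type u'} {𝒴 : Type w} [Category.{v'} 𝒳] [Category.{w'} 𝒴]
    {F G : 𝒳 ⥤ 𝒴} (e : F ≅ G)
    (H : 𝒴 ⥤ 𝒯) {X Y : 𝒳} (φ : X ⟶ Y) (K : 𝒯) :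
    Bij (H.map (F.map φ)) K ↔ Bij (H.map (G.map φ)) K :=
  bij_of_arrow_iso _ _ (H.mapIso (e.app X)) (H.mapIso (e.app Y)) (by
    show H.map (F.map φ) ≫ H.map (e.hom.app Y) = H.map (e.hom.app X) ≫ H.map (G.map φ)
    rw [← H.map_comp, ← H.map_comp, e.hom.naturality]) K

lemma bij_map_iso {𝒳 : Type u'} [Category.{v'} 𝒳] (H : 𝒳 ⥤ 𝒯) {A A' : 𝒳} (a : A ⟶ A)
    (a' : A' ⟶ A') (e : A ≅ A') (h : a ≫ e.hom = e.hom ≫ a') (K : 𝒯) :
    Bij (H.map a) K ↔ Bij (H.map a') K :=
  bij_of_arrow_iso _ _ (H.mapIso e) (H.mapIso e) (by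
    show H.map a ≫ H.map e.hom = H.map e.hom ≫ H.map a'
    rw [← H.map_comp, ← H.map_comp, h]) K

lemma bij_target_iso {A B : 𝒯} (a : A ⟶ B) {K K' : 𝒯} (e : K ≅ K') (ha : Bij a K) :
    Bij a K' := by
  constructor
  · intro x y hxy
    have hxy' : a ≫ x = a ≫ y := hxy
    have h1 : a ≫ (x ≫ e.inv) = a ≫ (y ≫ e.inv) := by
      rw [← Category.assoc, ← Category.assoc, hxy']
    exact (cancel_mono e.inv).1 (ha.1 (a₁ := x ≫ e.inv) (a₂ := y ≫ e.inv) h1)
  · intro z
    obtain ⟨x, hx⟩ := ha.2 (z ≫ e.inv)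
    have hx' : a ≫ x = z ≫ e.inv := hx
    refine ⟨x ≫ e.hom, ?_⟩
    show a ≫ x ≫ e.hom = z
    rw [← Category.assoc, hx', Category.assoc, Iso.inv_hom_id, Category.comp_id]

lemma bij_adj {𝒮 : Type u'} [Category.{v'} 𝒮] {L : 𝒯 ⥤ 𝒮} {R : 𝒮 ⥤ 𝒯} (adj : L ⊣ R) {A B : 𝒯}
    (a : A ⟶ B) (M : 𝒮) : Bij a (R.obj M) ↔ Bij (L.map a) M := by
  have key : ∀ y : L.obj B ⟶ M, adj.homEquiv A M (L.map a ≫ y) = a ≫ adj.homEquiv B M y :=
    fun y => adj.homEquiv_naturality_left a y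
  constructor
  · intro h
    constructor
    · intro y y' hyy
      have hyy' : L.map a ≫ y = L.map a ≫ y' := hyy
      have h1 : a ≫ adj.homEquiv B M y = a ≫ adj.homEquiv B M y' := by
        rw [← key, ← key, hyy']
      exact (adj.homEquiv B M).injective
        (h.1 (a₁ := adj.homEquiv B M y) (a₂ := adj.homEquiv B M y') h1)
    · intro z
      obtain ⟨x, hx⟩ := h.2 (adj.homEquiv A M z)
      have hx' : a ≫ x = adj.homEquiv A M z := hx
      refine ⟨(adj.homEquiv B M).symm x, ?_⟩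
      show L.map a ≫ (adj.homEquiv B M).symm x = z
      apply (adj.homEquiv A M).injective
      rw [key, Equiv.apply_symm_apply, hx']
  · intro h
    constructor
    · intro x x' hxx
      have hxx' : a ≫ x = a ≫ x' := hxx
      have h1 : L.map a ≫ (adj.homEquiv B M).symm x = L.map a ≫ (adj.homEquiv B M).symm x' := by
        apply (adj.homEquiv A M).injective
        rw [key, key, Equiv.apply_symm_apply, Equiv.apply_symm_apply, hxx']
      exact (adj.homEquiv B M).symm.injective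
        (h.1 (a₁ := (adj.homEquiv B M).symm x) (a₂ := (adj.homEquiv B M).symm x') h1)
    · intro z
      obtain ⟨y, hy⟩ := h.2 ((adj.homEquiv A M).symm z)
      have hy' : L.map a ≫ y = (adj.homEquiv A M).symm z := hy
      refine ⟨adj.homEquiv B M y, ?_⟩
      show a ≫ adj.homEquiv B M y = z
      rw [← key, hy', Equiv.apply_symm_apply]

end Bij

section Tri

variable {C : Type u} [Category.{v} C] [HasZeroObject C] [HasShift C ℤ] [Preadditive C]
  [∀ n : ℤ, (shiftFunctor C n).Additive] [Pretriangulated C]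

lemma subsingleton_of_iso_target {E A B : C} (e : A ≅ B) (h : Subsingleton (E ⟶ A)) :
    Subsingleton (E ⟶ B) :=
  ⟨fun x y => by
    have h1 := h.elim (x ≫ e.inv) (y ≫ e.inv)
    exact (cancel_mono e.inv).1 h1⟩

/-- if `Hom(E, K[n]) = 0` for all `n` then `Hom(Y, K[n]) → Hom(X, K[n])` is bijective -/
theorem bij_of_subsingleton (T : Triangle C) (hT : T ∈ distTriang C) (K : C)
    (h : ∀ n : ℤ, Subsingleton (T.obj₃ ⟶ K⟦n⟧)) (n : ℤ) : Bij T.mor₁ (K⟦n⟧) := by
  constructor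
  · intro x y hxy
    have hxy' : T.mor₁ ≫ x = T.mor₁ ≫ y := hxy
    have h0 : T.mor₁ ≫ (x - y) = 0 := by rw [Preadditive.comp_sub, hxy', sub_self]
    obtain ⟨g, hg⟩ := T.yoneda_exact₂ hT (x - y) h0
    have hg0 : g = 0 := (h n).elim g 0
    rw [hg0, comp_zero] at hg
    exact sub_eq_zero.1 hg
  · intro z
    have hs : Subsingleton (T.obj₃⟦(-1 : ℤ)⟧ ⟶ K⟦n⟧) := by
      have h1 : Subsingleton (T.obj₃ ⟶ (K⟦n⟧)⟦(1 : ℤ)⟧) :=
        subsingleton_of_iso_target ((shiftFunctorAdd' C n 1 (n + 1) rfl).app K) (h (n + 1))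
      exact (((shiftEquiv C (1 : ℤ)).symm.toAdjunction.homEquiv T.obj₃
        (K⟦n⟧)).subsingleton_congr).2 h1
    have h0 : T.invRotate.mor₁ ≫ z = 0 := hs.elim _ _
    obtain ⟨g, hg⟩ := T.invRotate.yoneda_exact₂ (inv_rot_of_distTriang T hT) z h0
    exact ⟨g, hg.symm⟩

/-- if `Hom(Y, K[n]) → Hom(X, K[n])` is bijective for all `n` then `Hom(E, K[n]) = 0` -/
theorem subsingleton_of_bij (T : Triangle C) (hT : T ∈ distTriang C) (K : C)
    (h : ∀ n : ℤ, Bij T.mor₁ (K⟦n⟧)) (n : ℤ) : Subsingleton (T.obj₃ ⟶ K⟦n⟧) := by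
  have hz : ∀ y : T.obj₃ ⟶ K⟦n⟧, y = 0 := by
    intro y
    have h1 : T.mor₂ ≫ y = 0 := by
      apply (h n).1 (a₁ := T.mor₂ ≫ y) (a₂ := 0)
      show T.mor₁ ≫ T.mor₂ ≫ y = T.mor₁ ≫ 0
      rw [← Category.assoc, comp_distTriang_mor_zero₁₂ T hT, zero_comp, comp_zero]
    obtain ⟨c, hc⟩ := T.yoneda_exact₃ hT y h1
    have hb : Bij ((shiftFunctor C (1 : ℤ)).map T.mor₁) (K⟦n⟧) := by
      have h2 : Bij T.mor₁ ((shiftFunctor C (-1 : ℤ)).obj (K⟦n⟧)) :=
        bij_target_iso T.mor₁ ((shiftFunctorAdd' C n (-1) (n - 1) (by omega)).app K) (h (n - 1))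
      exact (bij_adj (shiftEquiv C (1 : ℤ)).toAdjunction T.mor₁ (K⟦n⟧)).1 h2
    obtain ⟨c', hc'⟩ := hb.2 c
    have hc'' : T.mor₁⟦(1 : ℤ)⟧' ≫ c' = c := hc'
    rw [hc, ← hc'', ← Category.assoc, comp_distTriang_mor_zero₃₁ T hT, zero_comp]
  exact ⟨fun y y' => by rw [hz y, hz y']⟩

end Tri

section Der

open Groth.Agent.Lib.Helper5.KProj.DerHo

variable {A : Type u} [Category.{v} A] [Abelian A] [HasDerivedCategory.{w} A]

lemma bij_single_shift {𝒯 : Type u'} [Category.{v'} 𝒯] (H : DerivedCategory A ⥤ 𝒯) {X Y : A}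
    (φ : X ⟶ Y) (m : ℤ) (K : 𝒯) :
    Bij (H.map ((shiftFunctor (DerivedCategory A) m).map
      ((DerivedCategory.singleFunctor A 0).map φ))) K ↔
    Bij (H.map (DerivedCategory.Q.map ((shiftFunctor (CochainComplex A ℤ) m).map
      ((CochainComplex.singleFunctor A 0).map φ)))) K := by
  have h1 := bij_natIso_comp (DerivedCategory.singleFunctorIsoCompQ A 0)
    (shiftFunctor (DerivedCategory A) m ⋙ H) φ K
  have h2 := bij_natIso_comp ((DerivedCategory.Q (C := A)).commShiftIso m).symm H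
    ((CochainComplex.singleFunctor A 0).map φ) K
  exact h1.trans h2

variable {B : Type u'} [Category.{v'} B] [Abelian B] [HasDerivedCategory.{w'} B]
  (G : A ⥤ B) [G.Additive] (LG : DerivedCategory A ⥤ DerivedCategory B)
  (α : DerivedCategory.Qh ⋙ LG ⟶ Fh G)

lemma bij_LG_Q {P P' : CochainComplex A ℤ} (ψ : P ⟶ P')
    [IsIso (α.app ((HomotopyCategory.quotient A (ComplexShape.up ℤ)).obj P))]
    [IsIso (α.app ((HomotopyCategory.quotient A (ComplexShape.up ℤ)).obj P'))]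
    (M : DerivedCategory B) :
    Bij (LG.map (DerivedCategory.Q.map ψ)) M ↔
    Bij (DerivedCategory.Q.map ((G.mapHomologicalComplex (ComplexShape.up ℤ)).map ψ)) M := by
  have h1 : Bij (LG.map (DerivedCategory.Q.map ψ)) M ↔
      Bij ((Fh G).map ((HomotopyCategory.quotient A (ComplexShape.up ℤ)).map ψ)) M :=
    bij_of_arrow_iso _ _ (asIso (α.app _)) (asIso (α.app _))
      (α.naturality ((HomotopyCategory.quotient A (ComplexShape.up ℤ)).map ψ)) M
  have h2 := bij_natIso_comp (G.mapHomotopyCategoryFactors (ComplexShape.up ℤ))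
    (DerivedCategory.Qh (C := B)) ψ M
  exact h1.trans h2

theorem bij_LG_single {X Y : A} (φ : X ⟶ Y) (m : ℤ)
    [IsIso (α.app ((HomotopyCategory.quotient A (ComplexShape.up ℤ)).obj
      (((CochainComplex.singleFunctor A 0).obj X)⟦m⟧)))]
    [IsIso (α.app ((HomotopyCategory.quotient A (ComplexShape.up ℤ)).obj
      (((CochainComplex.singleFunctor A 0).obj Y)⟦m⟧)))]
    (M : DerivedCategory B) :
    Bij (LG.map ((shiftFunctor (DerivedCategory A) m).map
      ((DerivedCategory.singleFunctor A 0).map φ))) M ↔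
    Bij ((shiftFunctor (DerivedCategory B) m).map
      ((DerivedCategory.singleFunctor B 0).map (G.map φ))) M := by
  have h1 := bij_single_shift LG φ m M
  have h2 := bij_LG_Q G LG α ((shiftFunctor (CochainComplex A ℤ) m).map
    ((CochainComplex.singleFunctor A 0).map φ)) M
  have h3 := bij_natIso_comp (G.mapCochainComplexShiftIso m) (DerivedCategory.Q (C := B))
    ((CochainComplex.singleFunctor A 0).map φ) M
  have h4 := bij_natIso_comp
    (HomologicalComplex.singleMapHomologicalComplex G (ComplexShape.up ℤ) 0)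
    (shiftFunctor (CochainComplex B ℤ) m ⋙ DerivedCategory.Q) φ M
  have h5 := bij_single_shift (𝟭 (DerivedCategory B)) (G.map φ) m M
  exact h1.trans (h2.trans (h3.trans (h4.trans h5.symm)))

end Der

end Groth.Agent.Lib.Helper6.DCPush
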