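import Mathlib
import Groth.Prelude.Def_DerComp
import Groth.Agent.Lib.Helper3.SeqColim
import Groth.Agent.Lib.Helper5.Misc.KFlatSite
import Groth.Agent.Lib.Helper5.Misc.ShriekSheaf
import Groth.Agent.Lib.Helper5.Misc.FreeOn

/-!
# The telescope presentation of `j_{U!} O_{U,g}` (helper6)

`tel t = 1 - t·shift` on `∐_ℕ G`; it is a monomorphism when sequential colimits are exact; additive
coproduct-preserving functors commute with it; the short exact sequence
`0 → ∐ j_!O_U → ∐ j_!O_U → j_!(O_{U,g}) → 0`.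
-/

set_option backward.isDefEq.respectTransparency.types false
set_option autoImplicit false
set_option linter.unusedSectionVars false
set_option linter.unusedVariables false
set_option linter.style.haveILetI false
universe w w' v v' u u'
open CategoryTheory CategoryTheory.Limits Opposite

namespace Groth.Agent.Lib.Helper6.DCPush

section Gen

variable {𝒜 : Type u} [Category.{v} 𝒜] [Preadditive 𝒜] [HasCoproductsOfShape ℕ 𝒜]

/-- `1 - t·shift` on `∐_ℕ G` -/
noncomputable def tel {G : 𝒜} (t : G ⟶ G) : (∐ fun _ : ℕ => G) ⟶ ∐ fun _ : ℕ => G :=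
  Sigma.desc fun n => Sigma.ι (fun _ : ℕ => G) n - t ≫ Sigma.ι (fun _ : ℕ => G) (n + 1)

@[reassoc]
lemma ι_tel {G : 𝒜} (t : G ⟶ G) (n : ℕ) :
    Sigma.ι (fun _ : ℕ => G) n ≫ tel t =
      Sigma.ι (fun _ : ℕ => G) n - t ≫ Sigma.ι (fun _ : ℕ => G) (n + 1) := by
  unfold tel
  exact Sigma.ι_desc _ _

/-- the map induced on countable coproducts of copies -/
noncomputable def sigMap {G₁ G₂ : 𝒜} (e : G₁ ⟶ G₂) : (∐ fun _ : ℕ => G₁) ⟶ ∐ fun _ : ℕ => G₂ :=
  Sigma.desc fun n => e ≫ Sigma.ι (fun _ : ℕ => G₂) n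

@[reassoc]
lemma ι_sigMap {G₁ G₂ : 𝒜} (e : G₁ ⟶ G₂) (n : ℕ) :
    Sigma.ι (fun _ : ℕ => G₁) n ≫ sigMap e = e ≫ Sigma.ι (fun _ : ℕ => G₂) n := by
  unfold sigMap
  exact Sigma.ι_desc _ _

/-- the isomorphism induced on countable coproducts of copies -/
noncomputable def sigIso {G₁ G₂ : 𝒜} (e : G₁ ≅ G₂) :
    (∐ fun _ : ℕ => G₁) ≅ ∐ fun _ : ℕ => G₂ where
  hom := sigMap e.hom
  inv := sigMap e.inv
  hom_inv_id := by
    apply Sigma.hom_ext
    intro n
    rw [ι_sigMap_assoc, ι_sigMap, Iso.hom_inv_id_assoc, Category.comp_id]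
  inv_hom_id := by
    apply Sigma.hom_ext
    intro n
    rw [ι_sigMap_assoc, ι_sigMap, Iso.inv_hom_id_assoc, Category.comp_id]

lemma tel_natural {G₁ G₂ : 𝒜} (t₁ : G₁ ⟶ G₁) (t₂ : G₂ ⟶ G₂) (e : G₁ ⟶ G₂)
    (h : t₁ ≫ e = e ≫ t₂) : tel t₁ ≫ sigMap e = sigMap e ≫ tel t₂ := by
  apply Sigma.hom_ext
  intro n
  have hL : Sigma.ι (fun _ : ℕ => G₁) n ≫ tel t₁ ≫ sigMap e =
      e ≫ Sigma.ι (fun _ : ℕ => G₂) n - t₁ ≫ e ≫ Sigma.ι (fun _ : ℕ => G₂) (n + 1) := by
    rw [← Category.assoc, ι_tel, Preadditive.sub_comp, Category.assoc, ι_sigMap, ι_sigMap]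
  have hR : Sigma.ι (fun _ : ℕ => G₁) n ≫ sigMap e ≫ tel t₂ =
      e ≫ Sigma.ι (fun _ : ℕ => G₂) n - e ≫ t₂ ≫ Sigma.ι (fun _ : ℕ => G₂) (n + 1) := by
    rw [← Category.assoc, ι_sigMap, Category.assoc, ι_tel, Preadditive.comp_sub]
  rw [hL, hR, ← Category.assoc t₁, h, Category.assoc]

variable {ℬ : Type u'} [Category.{v'} ℬ] [Preadditive ℬ] [HasCoproductsOfShape ℕ ℬ]

lemma map_tel (F : 𝒜 ⥤ ℬ) [F.Additive] {G : 𝒜} (t : G ⟶ G) :
    sigmaComparison F (fun _ : ℕ => G) ≫ F.map (tel t) =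
      tel (F.map t) ≫ sigmaComparison F (fun _ : ℕ => G) := by
  apply Sigma.hom_ext
  intro n
  have hL : Sigma.ι (fun _ : ℕ => F.obj G) n ≫ sigmaComparison F (fun _ : ℕ => G) ≫
      F.map (tel t) =
      F.map (Sigma.ι (fun _ : ℕ => G) n) - F.map t ≫ F.map (Sigma.ι (fun _ : ℕ => G) (n + 1)) := by
    rw [← Category.assoc, ι_comp_sigmaComparison, ← F.map_comp, ι_tel, F.map_sub, F.map_comp]
  have hR : Sigma.ι (fun _ : ℕ => F.obj G) n ≫ tel (F.map t) ≫
      sigmaComparison F (fun _ : ℕ => G) =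
      F.map (Sigma.ι (fun _ : ℕ => G) n) - F.map t ≫ F.map (Sigma.ι (fun _ : ℕ => G) (n + 1)) := by
    rw [← Category.assoc, ι_tel, Preadditive.sub_comp, Category.assoc,
      ι_comp_sigmaComparison, ι_comp_sigmaComparison]
  exact hL.trans hR.symm

end Gen

section Ab

variable {𝒜 : Type u} [Category.{v} 𝒜] [Abelian 𝒜] [HasCoproductsOfShape ℕ 𝒜]

lemma mono_tel [HasColimitsOfShape ℕ 𝒜] [HasExactColimitsOfShape ℕ 𝒜] {G : 𝒜} (t : G ⟶ G) :
    Mono (tel t) :=
  Groth.Agent.Helper3.SeqColim.mono_one_sub_shift (Z := fun _ : ℕ => G)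
    (Cofan.mk (∐ fun _ : ℕ => G) (Sigma.ι fun _ : ℕ => G)) (coproductIsCoproduct _)
    (fun _ => t) (tel t) (fun n => ι_tel t n)

variable {ℬ : Type u'} [Category.{v'} ℬ] [Abelian ℬ] [HasCoproductsOfShape ℕ ℬ]

/-- an exact coproduct-preserving functor carries the telescope presentation of `coker (tel t)` to
a telescope presentation -/
theorem exists_ses_map (F : 𝒜 ⥤ ℬ) [F.Additive] [PreservesFiniteLimits F]
    [PreservesFiniteColimits F] {G : 𝒜} (t : G ⟶ G)
    [PreservesColimit (Discrete.functor fun _ : ℕ => G) F] [Mono (tel t)] :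
    ∃ (p : (∐ fun _ : ℕ => F.obj G) ⟶ F.obj (cokernel (tel t))) (w : tel (F.map t) ≫ p = 0),
      (ShortComplex.mk (tel (F.map t)) p w).ShortExact := by
  have hS₀ : (ShortComplex.mk (tel t) (cokernel.π (tel t)) (cokernel.condition _)).ShortExact :=
    ShortComplex.ShortExact.mk' (ShortComplex.exact_cokernel _) inferInstance inferInstance
  have hS₁ := hS₀.map_of_exact F
  have hc : tel (F.map t) ≫ sigmaComparison F (fun _ : ℕ => G) =
      sigmaComparison F (fun _ : ℕ => G) ≫ F.map (tel t) := (map_tel F t).symm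
  have w : tel (F.map t) ≫ (sigmaComparison F (fun _ : ℕ => G) ≫
      F.map (cokernel.π (tel t))) = 0 := by
    rw [← Category.assoc, hc, Category.assoc, ← F.map_comp, cokernel.condition, F.map_zero,
      comp_zero]
  refine ⟨sigmaComparison F (fun _ : ℕ => G) ≫ F.map (cokernel.π (tel t)), w, ?_⟩
  haveI hiso : IsIso (sigmaComparison F (fun _ : ℕ => G)) := inferInstance
  have e : ShortComplex.mk (tel (F.map t))
      (sigmaComparison F (fun _ : ℕ => G) ≫ F.map (cokernel.π (tel t))) w ≅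
      (ShortComplex.mk (tel t) (cokernel.π (tel t)) (cokernel.condition _)).map F :=
    ShortComplex.isoMk
      (S₁ := ShortComplex.mk (tel (F.map t))
        (sigmaComparison F (fun _ : ℕ => G) ≫ F.map (cokernel.π (tel t))) w)
      (S₂ := (ShortComplex.mk (tel t) (cokernel.π (tel t)) (cokernel.condition _)).map F)
      (@asIso _ _ _ _ (sigmaComparison F (fun _ : ℕ => G)) hiso)
      (@asIso _ _ _ _ (sigmaComparison F (fun _ : ℕ => G)) hiso) (Iso.refl _) (map_tel F t)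
      (by
        show sigmaComparison F (fun _ : ℕ => G) ≫ F.map (cokernel.π (tel t)) =
          (sigmaComparison F (fun _ : ℕ => G) ≫ F.map (cokernel.π (tel t))) ≫ 𝟙 _
        rw [Category.comp_id])
  exact ShortComplex.shortExact_of_iso e.symm hS₁

end Ab

section Site

open Groth.Agent.Lib.Helper5.FreeOn

variable {C : Type u} [SmallCategory C] {J : GrothendieckTopology C} (O : Sheaf J CommRingCat.{u})

/-- multiplication by `g ∈ O(U)` on `j_{U!} O_U` -/
noncomputable def tG (U : C) (g : O.obj.obj (op U)) : ModSite.freeOn O U ⟶ ModSite.freeOn O U :=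
  (ModSite.extZero O U).map
    (DerComp.smulEnd (DerComp.GSec.ofSect O U g) (ModSite.unit (O.over U)))

/-- the telescope presentation `0 → ∐ j_!O_U → ∐ j_!O_U → j_!(O_{U,g}) → 0` -/
theorem exists_ses (U : C) (g : O.obj.obj (op U)) :
    ∃ (p : (∐ fun _ : ℕ => ModSite.freeOn O U) ⟶
        (ModSite.extZero O U).obj (DerComp.awayOver O U g))
      (w : tel (tG O U g) ≫ p = 0), (ShortComplex.mk (tel (tG O U g)) p w).ShortExact := by
  haveI := Groth.Agent.Lib.Helper5.ShriekSheaf.extZero_preservesFiniteLimits O U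
  haveI : PreservesColimitsOfSize.{0, 0} (ModSite.extZero O U) :=
    (ModSite.extZeroAdj O U).leftAdjoint_preservesColimits
  haveI : Mono (tel (DerComp.smulEnd (DerComp.GSec.ofSect O U g) (ModSite.unit (O.over U)))) :=
    mono_tel _
  exact exists_ses_map (ModSite.extZero O U)
    (DerComp.smulEnd (DerComp.GSec.ofSect O U g) (ModSite.unit (O.over U)))

/-- under `Hom(j_!O_U, N) = N(U)`, precomposition with `tG` is multiplication by `g` -/
lemma freeOnHomEquiv_tG (U : C) (g : O.obj.obj (op U)) (N : ModSite.Mod O)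
    (ψ : ModSite.freeOn O U ⟶ N) :
    freeOnHomEquiv O U N (tG O U g ≫ ψ) =
      (show (ModSite.ringSh O).obj.obj (op U) from g) • freeOnHomEquiv O U N ψ := by
  have h1 : (ModSite.extZeroAdj O U).homEquiv _ N (tG O U g ≫ ψ) =
      DerComp.smulEnd (DerComp.GSec.ofSect O U g) (ModSite.unit (O.over U)) ≫
        (ModSite.extZeroAdj O U).homEquiv _ N ψ :=
    (ModSite.extZeroAdj O U).homEquiv_naturality_left _ _
  have h2 : DerComp.smulEnd (DerComp.GSec.ofSect O U g) (ModSite.unit (O.over U)) ≫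
        (ModSite.extZeroAdj O U).homEquiv _ N ψ =
      (ModSite.extZeroAdj O U).homEquiv _ N ψ ≫
        DerComp.smulEnd (DerComp.GSec.ofSect O U g) _ :=
    DerComp.smulEnd_comm _ _
  show ((ModSite.extZeroAdj O U).homEquiv _ N (tG O U g ≫ ψ)).val.app (op (Over.mk (𝟙 U)))
    (1 : (ModSite.ringSh (O.over U)).obj.obj (op (Over.mk (𝟙 U)))) = _
  rw [h1, h2]
  have hv : DerComp.GSec.val' (DerComp.GSec.ofSect O U g) (op (Over.mk (𝟙 U))) =
      (show (ModSite.ringSh (O.over U)).obj.obj (op (Over.mk (𝟙 U))) from g) := by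
    show (O.obj.map (𝟙 U).op).hom g = g
    rw [op_id, O.obj.map_id]
    rfl
  show DerComp.GSec.val' (DerComp.GSec.ofSect O U g) (op (Over.mk (𝟙 U))) •
    (((ModSite.extZeroAdj O U).homEquiv _ N ψ).val.app (op (Over.mk (𝟙 U)))
      (1 : (ModSite.ringSh (O.over U)).obj.obj (op (Over.mk (𝟙 U))))) = _
  rw [hv]
  rfl

end Site

end Groth.Agent.Lib.Helper6.DCPush
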