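import Mathlib
import Groth.Prelude.Def_DerComp
import Groth.Agent.Lib.Helper6.DCPush.Tel
import Groth.Agent.Lib.Helper5.LTen.FlatAmp
import Groth.Agent.Lib.Helper5.KFlatSite2.Cell
import Groth.Agent.S6146
import Groth.Agent.S6149

/-!
# `f^*(j_{V!} O_V) = j_{f⁻¹V!} O_{f⁻¹V}` compatibly with multiplication by sections (helper6)
-/

set_option backward.isDefEq.respectTransparency.types false
set_option autoImplicit false
set_option linter.unusedSectionVars false
set_option linter.unusedVariables false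
set_option linter.style.haveILetI false
universe u
open CategoryTheory CategoryTheory.Limits Opposite
attribute [local instance] HasDerivedCategory.standard

namespace Groth.Agent.Lib.Helper6.DCPush

open Groth.Agent.Lib.Helper5.FreeOn

section Cell

variable {C : Type u} [SmallCategory C] {J : GrothendieckTopology C} (O : Sheaf J CommRingCat.{u})

/-- a shifted single complex on a flat module is cellular -/
lemma cell_single_shift (X : ModSite.Mod O) (hX : ModSite.IsFlat X) (m : ℤ) :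
    Groth.Agent.Lib.Helper5.KFlatSiteQ.Cell O
      (((CochainComplex.singleFunctor (ModSite.Mod O) 0).obj X)⟦m⟧) := by
  refine Groth.Agent.Lib.Helper5.KFlatSiteQ.Cell.zero _ (fun i j => ?_) (fun n => ?_)
  · rw [CochainComplex.shiftFunctor_obj_d']
    have h0 : ((CochainComplex.singleFunctor (ModSite.Mod O) 0).obj X).d (i + m) (j + m) = 0 :=
      HomologicalComplex.single_obj_d (ComplexShape.up ℤ) 0 X (i + m) (j + m)
    rw [h0, smul_zero]
    rfl
  · by_cases h : n + m = 0
    · exact Groth.Agent.S6146.isFlat_of_iso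
        (HomologicalComplex.singleObjXIsoOfEq (ComplexShape.up ℤ) 0 X (n + m) h).symm hX
    · exact Groth.Agent.S6149.isFlat_of_isZero _
        (HomologicalComplex.isZero_single_obj_X (ComplexShape.up ℤ) 0 X (n + m) h)

lemma isFlat_sigma_freeOn (U : C) : ModSite.IsFlat (∐ fun _ : ℕ => ModSite.freeOn O U) :=
  Groth.Agent.Lib.Helper5.FlatAmp.isFlat_sigma O (fun _ : ℕ => ModSite.freeOn O U)
    (fun _ => (Groth.Agent.S6146.result O U).2)

end Cell

variable {C D : Type u} [SmallCategory C] [SmallCategory D] {J : GrothendieckTopology C}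
  {K : GrothendieckTopology D} {O_C : Sheaf J CommRingCat.{u}} {O_D : Sheaf K CommRingCat.{u}}
  (f : ModSite.RMor O_C O_D)

/-- the image of a section of `O_D` over `V` in `O_C(f⁻¹ V)` -/
abbrev sharpSect (V : D) (g : O_D.obj.obj (op V)) : O_C.obj.obj (op (f.fn.obj V)) :=
  (f.sharp.hom.app (op V)).hom g

/-- sections of `f_* F` over `V` are sections of `F` over `f⁻¹ V` -/
def pushSect (F : ModSite.Mod O_C) (V : D) :
    ((f.push.obj F).val.obj (op V)) ≃ (F.val.obj (op (f.fn.obj V))) := Equiv.refl _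

/-- `Hom(f^* j_!O_V, F) = Hom(j_!O_{f⁻¹V}, F)` -/
noncomputable def Ψ (V : D) (F : ModSite.Mod O_C) :
    (f.pull.obj (ModSite.freeOn O_D V) ⟶ F) ≃ (ModSite.freeOn O_C (f.fn.obj V) ⟶ F) :=
  (f.adj.homEquiv (ModSite.freeOn O_D V) F).trans
    ((freeOnHomEquiv O_D V (f.push.obj F)).trans
      ((pushSect f F V).trans (freeOnHomEquiv O_C (f.fn.obj V) F).symm))

lemma Ψ_nat (V : D) {F F' : ModSite.Mod O_C} (φ : f.pull.obj (ModSite.freeOn O_D V) ⟶ F)
    (h : F ⟶ F') : Ψ f V F' (φ ≫ h) = Ψ f V F φ ≫ h := by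
  unfold Ψ
  simp only [Equiv.trans_apply]
  rw [Adjunction.homEquiv_naturality_right, freeOnHomEquiv_naturality]
  exact freeOnHomEquiv_symm_naturality O_C (f.fn.obj V) _ h

lemma Ψ_tG (V : D) (g : O_D.obj.obj (op V)) (F : ModSite.Mod O_C)
    (φ : f.pull.obj (ModSite.freeOn O_D V) ⟶ F) :
    Ψ f V F (f.pull.map (tG O_D V g) ≫ φ) =
      tG O_C (f.fn.obj V) (sharpSect f V g) ≫ Ψ f V F φ := by
  unfold Ψ
  simp only [Equiv.trans_apply]
  rw [Adjunction.homEquiv_naturality_left, freeOnHomEquiv_tG]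
  apply (freeOnHomEquiv O_C (f.fn.obj V) F).injective
  rw [Equiv.apply_symm_apply, freeOnHomEquiv_tG, Equiv.apply_symm_apply]
  rfl

/-- `f^*(j_{V!} O_V) ≅ j_{f⁻¹V!} O_{f⁻¹V}` -/
noncomputable def pullFreeIso (V : D) :
    f.pull.obj (ModSite.freeOn O_D V) ≅ ModSite.freeOn O_C (f.fn.obj V) :=
  isoOfHomEquiv (Ψ f V) (fun φ h => Ψ_nat f V φ h)

lemma Ψ_pullFreeIso_hom (V : D) : Ψ f V _ (pullFreeIso f V).hom = 𝟙 _ :=
  Equiv.apply_symm_apply _ _

lemma pull_tG_comm (V : D) (g : O_D.obj.obj (op V)) :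
    f.pull.map (tG O_D V g) ≫ (pullFreeIso f V).hom =
      (pullFreeIso f V).hom ≫ tG O_C (f.fn.obj V) (sharpSect f V g) := by
  apply (Ψ f V _).injective
  rw [Ψ_tG, Ψ_nat, Ψ_pullFreeIso_hom, Category.comp_id, Category.id_comp]

instance preservesColimits_pull : PreservesColimitsOfSize.{0, 0} f.pull :=
  f.adj.leftAdjoint_preservesColimits

/-- `f^*(∐ j_{V!} O_V) ≅ ∐ j_{f⁻¹V!} O_{f⁻¹V}` -/
noncomputable def pullTelIso (V : D) :
    f.pull.obj (∐ fun _ : ℕ => ModSite.freeOn O_D V) ≅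
      ∐ fun _ : ℕ => ModSite.freeOn O_C (f.fn.obj V) :=
  (asIso (sigmaComparison f.pull (fun _ : ℕ => ModSite.freeOn O_D V))).symm ≪≫
    sigIso (pullFreeIso f V)

lemma pullTel_comm (V : D) (g : O_D.obj.obj (op V)) :
    f.pull.map (tel (tG O_D V g)) ≫ (pullTelIso f V).hom =
      (pullTelIso f V).hom ≫ tel (tG O_C (f.fn.obj V) (sharpSect f V g)) := by
  have h1 := map_tel f.pull (tG O_D V g)
  have h2 := tel_natural (f.pull.map (tG O_D V g)) (tG O_C (f.fn.obj V) (sharpSect f V g))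
    (pullFreeIso f V).hom (pull_tG_comm f V g)
  have h3 : f.pull.map (tel (tG O_D V g)) ≫
      inv (sigmaComparison f.pull (fun _ : ℕ => ModSite.freeOn O_D V)) =
      inv (sigmaComparison f.pull (fun _ : ℕ => ModSite.freeOn O_D V)) ≫
        tel (f.pull.map (tG O_D V g)) := by
    rw [IsIso.eq_inv_comp, ← Category.assoc, h1, Category.assoc, IsIso.hom_inv_id,
      Category.comp_id]
  show f.pull.map (tel (tG O_D V g)) ≫
      (inv (sigmaComparison f.pull (fun _ : ℕ => ModSite.freeOn O_D V)) ≫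
        sigMap (pullFreeIso f V).hom) =
    (inv (sigmaComparison f.pull (fun _ : ℕ => ModSite.freeOn O_D V)) ≫
        sigMap (pullFreeIso f V).hom) ≫ tel (tG O_C (f.fn.obj V) (sharpSect f V g))
  rw [← Category.assoc, h3, Category.assoc, h2, Category.assoc]

end Groth.Agent.Lib.Helper6.DCPush
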